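import Cfsg.Agent.Lib.Helper29.GLK.PieceB1

/-!
# Project GLK, piece B (part 2): equal invariants give conjugate elements
-/

set_option autoImplicit false

namespace Cfsg.Agent.Lib.Helper29.GLK

open Polynomial UniqueFactorizationMonoid

universe u

theorem glkB_count {F : Type u} [Field F] [DecidableEq F] {ι : Type*} [Fintype ι]
    (p : ι → F[X]) (e : ι → ℕ) (hp : ∀ j, Irreducible (p j)) (i : ℕ) (P : F[X]) :
    Fintype.card {j // (normalize (p j), e j) = (P, i + 1)} =
      Multiset.count P (normalizedFactors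
        (∏ j ∈ Finset.univ.filter (fun j => e j = i + 1), normalize (p j))) := by
  classical
  have h1 : normalizedFactors (∏ j ∈ Finset.univ.filter (fun j => e j = i + 1), normalize (p j)) =
      (Finset.univ.filter (fun j => e j = i + 1)).val.map (fun j => normalize (p j)) := by
    rw [Finset.prod_eq_multiset_prod, normalizedFactors_prod_eq]
    · rw [Multiset.map_map]
      exact Multiset.map_congr rfl (fun j _ => normalize_idem _)
    · intro a ha
      obtain ⟨j, _, rfl⟩ := Multiset.mem_map.mp ha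
      exact (associated_normalize (p j)).irreducible (hp j)
  rw [h1, Multiset.count_map, Fintype.card_subtype, ← Finset.filter_val, Finset.card_val,
    Finset.filter_filter]
  congr 1
  ext j
  simp only [Finset.mem_filter, Finset.mem_univ, true_and, Prod.mk.injEq]
  constructor
  · rintro ⟨h1, h2⟩
    exact ⟨h2, h1.symm⟩
  · rintro ⟨h1, h2⟩
    exact ⟨h2.symm, h1⟩

theorem glkB_fiber_card {F : Type u} [Field F] [DecidableEq F]
    {ι ι' : Type*} [Fintype ι] [Fintype ι'] (p : ι → F[X]) (e : ι → ℕ)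
    (p' : ι' → F[X]) (e' : ι' → ℕ)
    (hp : ∀ j, Irreducible (p j)) (hp' : ∀ j, Irreducible (p' j))
    (he : ∀ j, e j ≠ 0) (he' : ∀ j, e' j ≠ 0)
    (h : ∀ i : ℕ, ∏ j ∈ Finset.univ.filter (fun j => e j = i + 1), normalize (p j) =
      ∏ j ∈ Finset.univ.filter (fun j => e' j = i + 1), normalize (p' j))
    (a : F[X] × ℕ) :
    Fintype.card {j // (normalize (p j), e j) = a} =
      Fintype.card {j // (normalize (p' j), e' j) = a} := by
  obtain ⟨P, k⟩ := a
  rcases k with _ | i
  · have h1 : IsEmpty {j // (normalize (p j), e j) = (P, 0)} :=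
      ⟨fun ⟨j, hj⟩ => he j (Prod.mk.inj hj).2⟩
    have h2 : IsEmpty {j // (normalize (p' j), e' j) = (P, 0)} :=
      ⟨fun ⟨j, hj⟩ => he' j (Prod.mk.inj hj).2⟩
    rw [Fintype.card_eq_zero, Fintype.card_eq_zero]
  · rw [glkB_count p e hp, glkB_count p' e' hp', h]

theorem isConj_of_isInv {F : Type u} [Field F] [DecidableEq F] {n : ℕ}
    (g g' : Matrix.GeneralLinearGroup (Fin n) F) (G : ℕ → F[X])
    (h : IsInv g G) (h' : IsInv g' G) : IsConj g g' := by
  classical
  obtain ⟨ι, _, p, e, hp, he, ⟨Φ⟩, hG⟩ := h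
  obtain ⟨ι', _, p', e', hp', he', ⟨Φ'⟩, hG'⟩ := h'
  have hfib := glkB_fiber_card p e p' e' hp hp' he he' (fun i => by rw [← hG, ← hG'])
  obtain ⟨σ, hσ⟩ := glkB_exists_equiv (fun j => (normalize (p j), e j))
    (fun j => (normalize (p' j), e' j)) hfib
  have hspan : ∀ j, Ideal.span {p j ^ e j} = Ideal.span {p' (σ j) ^ e' (σ j)} := by
    intro j
    have h1 := hσ j
    simp only [Prod.mk.injEq] at h1
    rw [Ideal.span_singleton_eq_span_singleton, h1.2]
    have h2 : Associated (p j) (p' (σ j)) := by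
      have := h1.1
      exact (associated_normalize (p j)).trans (this ▸ (associated_normalize (p' (σ j))).symm)
    exact h2.pow_pow
  exact glkB_conj_of_equiv g g'
    ((Φ.trans (glkB_reindex (fun j => p j ^ e j) (fun j => p' j ^ e' j) σ hspan)).trans Φ'.symm)

end Cfsg.Agent.Lib.Helper29.GLK
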