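import Cfsg.Agent.Lib.Helper29.GLK.Defs
import Cfsg.Agent.Lib.Helper24.GLKM1
import Cfsg.Agent.Lib.Helper24.GLKM2

/-!
# Project GLK, piece M3: the invariants of `g` form a tuple of weight `n`
-/

set_option autoImplicit false

namespace Cfsg.Agent.Lib.Helper29.GLK

open Polynomial

universe u

theorem glkM3_coeff_normalize {F : Type u} [Field F] [DecidableEq F] (p : F[X])
    (h : p.coeff 0 ≠ 0) : (normalize p).coeff 0 ≠ 0 := by
  obtain ⟨u, hu⟩ := associated_normalize p
  rw [← hu, mul_coeff_zero]
  exact mul_ne_zero h (coeff_coe_units_zero_ne_zero u)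

theorem glkM3_natDegree_normalize {F : Type u} [Field F] [DecidableEq F] (p : F[X]) :
    (normalize p).natDegree = p.natDegree :=
  natDegree_eq_of_degree_eq degree_normalize

theorem isInv_mem {F : Type u} [Field F] [DecidableEq F] {n : ℕ}
    (g : Matrix.GeneralLinearGroup (Fin n) F) (G : ℕ → F[X]) (h : IsInv g G) :
    (fun i : Fin n => G i) ∈ tupSet F n 1 n ∧ ∀ i, n ≤ i → G i = 1 := by
  classical
  obtain ⟨ι, _, p, e, hp, he, ⟨Φ⟩, hG⟩ := h
  have hsum := decomp_finrank g p e hp Φ
  have hc := fun j => decomp_coeff_zero g p e Φ j (he j)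
  have hdeg : ∀ j, 1 ≤ (p j).natDegree := fun j =>
    natDegree_pos_iff_degree_pos.mpr (degree_pos_of_irreducible (hp j))
  have hle : ∀ j, e j ≤ n := by
    intro j
    calc e j ≤ e j * (p j).natDegree := Nat.le_mul_of_pos_right _ (hdeg j)
      _ ≤ ∑ j, e j * (p j).natDegree :=
          Finset.single_le_sum (f := fun j => e j * (p j).natDegree) (fun _ _ => Nat.zero_le _)
            (Finset.mem_univ j)
      _ = n := hsum
  have hmon : ∀ i, (G i).Monic := by
    intro i
    rw [hG]
    exact monic_prod_of_monic _ _ (fun j _ => monic_normalize (hp j).ne_zero)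
  have hnd : ∀ i, (G i).natDegree =
      ∑ j ∈ Finset.univ.filter (fun j => e j = i + 1), (p j).natDegree := by
    intro i
    rw [hG, natDegree_prod_of_monic _ _ (fun j _ => monic_normalize (hp j).ne_zero)]
    exact Finset.sum_congr rfl (fun j _ => glkM3_natDegree_normalize _)
  refine ⟨⟨fun i => ⟨hmon i, ?_⟩, ?_⟩, ?_⟩
  · change (G i).coeff 0 ≠ 0
    rw [hG, coeff_zero_eq_eval_zero, eval_prod, Finset.prod_ne_zero_iff]
    intro j _
    rw [← coeff_zero_eq_eval_zero]
    exact glkM3_coeff_normalize _ (hc j)
  · change ∑ i : Fin n, (1 + (i : ℕ)) * (G i).natDegree = n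
    have h1 : ∀ i : Fin n, (1 + (i : ℕ)) * (G i).natDegree =
        ∑ j, if e j = (i : ℕ) + 1 then e j * (p j).natDegree else 0 := by
      intro i
      rw [hnd, Finset.mul_sum, Finset.sum_filter]
      refine Finset.sum_congr rfl (fun j _ => ?_)
      split_ifs with hj
      · rw [hj, add_comm]
      · rfl
    rw [Finset.sum_congr rfl (fun i _ => h1 i), Finset.sum_comm]
    refine Eq.trans ?_ hsum
    refine Finset.sum_congr rfl (fun j _ => ?_)
    have hj1 : e j - 1 < n := by
      have := hle j
      have := he j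
      omega
    rw [Fintype.sum_eq_single (⟨e j - 1, hj1⟩ : Fin n)]
    · rw [if_pos]
      have := he j
      simp only
      omega
    · intro i hi
      rw [if_neg]
      intro h2
      apply hi
      apply Fin.ext
      simp only
      omega
  · intro i hi
    rw [hG]
    apply Finset.prod_eq_one
    intro j hj
    exfalso
    have h2 := (Finset.mem_filter.mp hj).2
    have := hle j
    omega

end Cfsg.Agent.Lib.Helper29.GLK
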