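import Cfsg.Agent.Lib.Helper29.GLK.Defs

/-!
# Project GLK, piece A: every `g` has a family of invariants
-/

set_option autoImplicit false

namespace Cfsg.Agent.Lib.Helper29.GLK

open Polynomial

universe u

/-- dropping subsingleton components from a product -/
noncomputable def glkA_piDrop {R : Type*} [CommRing R] {ι : Type*}
    (Q : ι → Type*) [∀ i, AddCommGroup (Q i)] [∀ i, Module R (Q i)]
    (P : ι → Prop) [DecidablePred P] (h : ∀ i, ¬ P i → Subsingleton (Q i)) :
    (∀ i, Q i) ≃ₗ[R] (∀ i : {i // P i}, Q i.1) where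
  toFun f i := f i.1
  invFun g i := if hi : P i then g ⟨i, hi⟩ else 0
  map_add' _ _ := rfl
  map_smul' _ _ := rfl
  left_inv := by
    intro f
    funext i
    by_cases hi : P i
    · simp [hi]
    · have := h i hi
      exact Subsingleton.elim _ _
  right_inv := by
    intro g
    funext i
    simp [i.2]

/-- dropping subsingleton summands from a finite direct sum -/
noncomputable def glkA_dropEquiv {R : Type*} [CommRing R] {ι : Type*} [Fintype ι]
    (Q : ι → Type*) [∀ i, AddCommGroup (Q i)] [∀ i, Module R (Q i)]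
    (P : ι → Prop) [DecidablePred P] (h : ∀ i, ¬ P i → Subsingleton (Q i)) :
    (DirectSum ι Q) ≃ₗ[R] (DirectSum {i // P i} fun i => Q i.1) :=
  (DirectSum.linearEquivFunOnFintype R ι Q).trans
    ((glkA_piDrop (R := R) Q P h).trans
      (DirectSum.linearEquivFunOnFintype R {i // P i} (fun i => Q i.1)).symm)

theorem exists_isInv {F : Type u} [Field F] [DecidableEq F] {n : ℕ}
    (g : Matrix.GeneralLinearGroup (Fin n) F) : ∃ G, IsInv g G := by
  classical
  have hT : Module.IsTorsion F[X] (gMod g) :=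
    Module.AEval.isTorsion_of_finiteDimensional F (Fin n → F)
      (Matrix.toLin' (g : Matrix (Fin n) (Fin n) F))
  obtain ⟨ι, _, p, hp, e, ⟨Φ⟩⟩ := Module.equiv_directSum_of_isTorsion hT
  have hsub : ∀ i, ¬ (e i ≠ 0) → Subsingleton (F[X] ⧸ Ideal.span {p i ^ e i}) := by
    intro i hi
    rw [not_not] at hi
    rw [hi, pow_zero, Ideal.span_singleton_one]
    exact Submodule.Quotient.subsingleton_iff.mpr rfl
  refine ⟨fun i => ∏ j ∈ Finset.univ.filter (fun j : {i // e i ≠ 0} => e j.1 = i + 1),
    normalize (p j.1), {i // e i ≠ 0}, inferInstance, fun j => p j.1, fun j => e j.1,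
    fun j => hp j.1, fun j => j.2, ⟨?_⟩, fun i => rfl⟩
  exact Φ.trans (glkA_dropEquiv (fun i => F[X] ⧸ Ideal.span {p i ^ e i}) (fun i => e i ≠ 0) hsub)

end Cfsg.Agent.Lib.Helper29.GLK
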