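import Mathlib

/-!
# Project GLK (S2478): `q^n - q^(n-1) ≤ k(GL_n(q)) ≤ q^n` — shared definitions

* `nMon q m`  : (upper bound for) the number of monic polynomials of degree `m` over `F_q` with
  nonzero constant coefficient;
* `cnt q s r j` : (upper bound for) the number of tuples `(G_0, …, G_{s-1})` of such polynomials with
  `∑ (r+i) deg G_i = j`;
* `tupSet F s r j` : that set of tuples;
* `gMod g` : `F^n` as an `F[X]`-module through `g`;
* `IsInv g G` : `G` is "the" family of invariants of `g` read off some primary decomposition.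
-/

set_option autoImplicit false

namespace Cfsg.Agent.Lib.Helper29.GLK

open Polynomial

universe u

/-- (a bound for) the number of monic polynomials of degree `m` with nonzero constant term -/
def nMon (q m : ℕ) : ℕ := if m = 0 then 1 else (q - 1) * q ^ (m - 1)

/-- (a bound for) the number of tuples of weight `j` -/
def cnt (q : ℕ) : ℕ → ℕ → ℕ → ℕ
  | 0, _, j => if j = 0 then 1 else 0
  | s + 1, r, j =>
      ∑ m ∈ Finset.range (j + 1),
        if r * m ≤ j then nMon q m * cnt q s (r + 1) (j - r * m) else 0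

/-- tuples `(G_0, …, G_{s-1})` of monic polynomials with nonzero constant coefficient and
`∑ (r+i) deg G_i = j` -/
def tupSet (F : Type u) [Field F] (s r j : ℕ) : Set (Fin s → F[X]) :=
  {G | (∀ i, (G i).Monic ∧ (G i).coeff 0 ≠ 0) ∧
    ∑ i : Fin s, (r + (i : ℕ)) * (G i).natDegree = j}

/-- `F^n` as an `F[X]`-module, `X` acting as `g` -/
abbrev gMod {F : Type u} [Field F] {n : ℕ} (g : Matrix.GeneralLinearGroup (Fin n) F) :=
  Module.AEval' (Matrix.toLin' (g : Matrix (Fin n) (Fin n) F))

/-- `G` is the family of invariants of `g` read off some primary decomposition of `gMod g`: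
`G i` is the product of the (normalised) `p j` with `e j = i + 1`. -/
def IsInv {F : Type u} [Field F] [DecidableEq F] {n : ℕ}
    (g : Matrix.GeneralLinearGroup (Fin n) F) (G : ℕ → F[X]) : Prop :=
  ∃ (ι : Type u) (_ : Fintype ι) (p : ι → F[X]) (e : ι → ℕ),
    (∀ j, Irreducible (p j)) ∧ (∀ j, e j ≠ 0) ∧
    Nonempty (gMod g ≃ₗ[F[X]] DirectSum ι fun j => F[X] ⧸ Ideal.span {p j ^ e j}) ∧
    ∀ i : ℕ, G i = ∏ j ∈ Finset.univ.filter (fun j => e j = i + 1), normalize (p j)

end Cfsg.Agent.Lib.Helper29.GLK
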