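import Cfsg.Agent.Lib.Helper29.GLK.Defs

/-!
# Project GLK, piece B (part 1): generic lemmas

* `glkB_exists_equiv` : equal fibre cardinalities give a bijection of index types;
* `glkB_reindex` : reindexing a direct sum of cyclic modules;
* `glkB_conj_of_equiv` : an `F[X]`-linear equivalence `gMod g ≃ gMod g'` makes `g`, `g'` conjugate.
-/

set_option autoImplicit false

namespace Cfsg.Agent.Lib.Helper29.GLK

open Polynomial

universe u

theorem glkB_exists_equiv {ι ι' α : Type*} [Fintype ι] [Fintype ι'] [DecidableEq α]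
    (f : ι → α) (f' : ι' → α)
    (h : ∀ a, Fintype.card {j // f j = a} = Fintype.card {j' // f' j' = a}) :
    ∃ σ : ι ≃ ι', ∀ j, f' (σ j) = f j := by
  have e : ∀ a, {j // f j = a} ≃ {j' // f' j' = a} := fun a => Fintype.equivOfCardEq (h a)
  exact ⟨Equiv.ofFiberEquiv e, fun j => Equiv.ofFiberEquiv_map e j⟩

/-- reindexing a direct sum of cyclic modules along a bijection matching the ideals -/
noncomputable def glkB_reindex {R : Type*} [CommRing R] {ι ι' : Type*}
    (a : ι → R) (a' : ι' → R) (σ : ι ≃ ι')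
    (h : ∀ j, Ideal.span {a j} = Ideal.span {a' (σ j)}) :
    (DirectSum ι fun j => R ⧸ Ideal.span {a j}) ≃ₗ[R]
      (DirectSum ι' fun j' => R ⧸ Ideal.span {a' j'}) :=
  (DirectSum.lequivCongrLeft R σ).trans
    (DFinsupp.mapRange.linearEquiv fun k =>
      Submodule.quotEquivOfEq _ _ (by rw [h, Equiv.apply_symm_apply]))

theorem glkB_conj_of_equiv {F : Type u} [Field F] {n : ℕ}
    (g g' : Matrix.GeneralLinearGroup (Fin n) F)
    (Ψ : gMod g ≃ₗ[F[X]] gMod g') : IsConj g g' := by
  set φ := Matrix.toLin' (g : Matrix (Fin n) (Fin n) F) with hφ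
  set φ' := Matrix.toLin' (g' : Matrix (Fin n) (Fin n) F) with hφ'
  -- the `F`-linear equivalence
  let T : (Fin n → F) ≃ₗ[F] (Fin n → F) :=
    (Module.AEval'.of φ).trans ((Ψ.restrictScalars F).trans (Module.AEval'.of φ').symm)
  have hT : ∀ v, T (φ v) = φ' (T v) := by
    intro v
    change (Module.AEval'.of φ').symm (Ψ (Module.AEval'.of φ (φ v))) =
      φ' ((Module.AEval'.of φ').symm (Ψ (Module.AEval'.of φ v)))
    rw [← Module.AEval'.X_smul_of, map_smul, Module.AEval'.of_symm_X_smul]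
  have hcomp : T.toLinearMap ∘ₗ φ = φ' ∘ₗ T.toLinearMap := by
    refine LinearMap.ext fun v => ?_
    exact hT v
  set P := LinearMap.toMatrix' T.toLinearMap with hP
  set Q := LinearMap.toMatrix' T.symm.toLinearMap with hQ
  have hPQ : P * Q = 1 := by
    rw [hP, hQ, ← LinearMap.toMatrix'_comp]
    simp
  have hQP : Q * P = 1 := by
    rw [hP, hQ, ← LinearMap.toMatrix'_comp]
    simp
  have hPg : P * (g : Matrix (Fin n) (Fin n) F) = (g' : Matrix (Fin n) (Fin n) F) * P := by
    have h1 : LinearMap.toMatrix' (T.toLinearMap ∘ₗ φ) = P * (g : Matrix (Fin n) (Fin n) F) := by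
      rw [LinearMap.toMatrix'_comp, hφ, LinearMap.toMatrix'_toLin']
    have h2 : LinearMap.toMatrix' (φ' ∘ₗ T.toLinearMap) = (g' : Matrix (Fin n) (Fin n) F) * P := by
      rw [LinearMap.toMatrix'_comp, hφ', LinearMap.toMatrix'_toLin']
    rw [← h1, ← h2, hcomp]
  let U : Matrix.GeneralLinearGroup (Fin n) F := ⟨P, Q, hPQ, hQP⟩
  rw [isConj_iff]
  refine ⟨U, ?_⟩
  rw [mul_inv_eq_iff_eq_mul]
  apply Units.ext
  simpa [U] using hPg

end Cfsg.Agent.Lib.Helper29.GLK
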