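import Cfsg.Agent.Lib.Helper29.GLK.PieceA
import Cfsg.Agent.Lib.Helper29.GLK.PieceB2
import Cfsg.Agent.Lib.Helper29.GLK.PieceM3
import Cfsg.Agent.Lib.helper6.GLKN
import Cfsg.Agent.Lib.Helper25.GLKC

/-!
# Project GLK: `k(GL_n(q)) ≤ q^n`
-/

set_option autoImplicit false

namespace Cfsg.Agent.Lib.Helper29.GLK

open Polynomial

universe u

theorem upper {F : Type u} [Field F] [Fintype F] [DecidableEq F] (n : ℕ) :
    Nat.card (ConjClasses (Matrix.GeneralLinearGroup (Fin n) F)) ≤ Fintype.card F ^ n := by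
  have hex : ∀ c : ConjClasses (Matrix.GeneralLinearGroup (Fin n) F),
      ∃ G, IsInv (Quotient.out c) G := fun c => exists_isInv _
  choose Γ hΓ using hex
  have hmem := fun c => isInv_mem _ _ (hΓ c)
  let f : ConjClasses (Matrix.GeneralLinearGroup (Fin n) F) → tupSet F n 1 n :=
    fun c => ⟨fun i => Γ c i, (hmem c).1⟩
  have hf : Function.Injective f := by
    intro c c' h
    have h1 : Γ c = Γ c' := by
      funext i
      by_cases hi : i < n
      · exact congrFun (congrArg Subtype.val h) ⟨i, hi⟩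
      · rw [(hmem c).2 i (not_lt.mp hi), (hmem c').2 i (not_lt.mp hi)]
    have h2 := isConj_of_isInv _ _ _ (hΓ c) (h1 ▸ hΓ c')
    rw [← Quotient.out_eq c, ← Quotient.out_eq c']
    exact ConjClasses.mk_eq_mk_iff_isConj.mpr h2
  obtain ⟨hfin, hcard⟩ := tupSet_card_le F n 1 n le_rfl
  have := hfin.to_subtype
  calc Nat.card (ConjClasses (Matrix.GeneralLinearGroup (Fin n) F))
      ≤ Nat.card (tupSet F n 1 n) := Nat.card_le_card_of_injective f hf
    _ = (tupSet F n 1 n).ncard := Nat.card_coe_set_eq _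
    _ ≤ cnt (Fintype.card F) n 1 n := hcard
    _ ≤ _ := cnt_le _ _ Fintype.one_lt_card

end Cfsg.Agent.Lib.Helper29.GLK
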